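import Groth.Agent.AdicBasics.Dimension
import Groth.Agent.LocalCrit.Criterion
import Mathlib.RingTheory.AdicCompletion.Functoriality
import Mathlib.RingTheory.AdicCompletion.Noetherian
import Mathlib.RingTheory.KrullDimension.NonZeroDivisors
import Mathlib.RingTheory.Flat.FaithfullyFlat.Algebra
import Mathlib.RingTheory.Flat.Stability
import Mathlib.RingTheory.Nakayama

/-! The map of completions induced by a local homomorphism. -/

universe u
open IsLocalRing TensorProduct

namespace Groth.Agent.AdicBasics

/-- A surjective map out of a Noetherian domain onto a ring of the same finite dimension is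
injective. -/
theorem injective_of_surjective_of_dim {R S : Type u} [CommRing R] [IsDomain R] [IsNoetherianRing R]
    [IsLocalRing R] [CommRing S] (f : R →+* S) (hf : Function.Surjective f)
    (hd : ringKrullDim R ≤ ringKrullDim S) : Function.Injective f := by
  rw [injective_iff_map_eq_zero]
  intro r hr
  by_contra hr0
  have h := (ringKrullDim_succ_le_of_surjective f hf (mem_nonZeroDivisors_of_ne_zero hr0) hr).trans hd
  obtain ⟨n, hn⟩ : ∃ n : ℕ, ringKrullDim R = n :=
    finiteRingKrullDim_iff_ne_bot_and_top.mp inferInstance |>.2 |> fun htop => by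
      obtain ⟨d, hd'⟩ := WithBot.ne_bot_iff_exists.1
        (finiteRingKrullDim_iff_ne_bot_and_top.mp (inferInstance : FiniteRingKrullDim R)).1
      have : d ≠ ⊤ := fun hd'' => htop (by rw [← hd', hd'']; rfl)
      obtain ⟨n, rfl⟩ := WithTop.ne_top_iff_exists.1 this
      exact ⟨n, hd'.symm⟩
  have h2 : ringKrullDim S + 1 ≤ ringKrullDim S := h
  have h3 : ringKrullDim S ≤ n := hn ▸ ringKrullDim_le_of_surjective f hf
  have h4 : (n : WithBot ℕ∞) ≤ ringKrullDim S := hn ▸ hd
  rw [le_antisymm h3 h4] at h2
  exact absurd (by exact_mod_cast h2 : n + 1 ≤ n) (by omega)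

variable {A B : Type u} [CommRing A] [CommRing B] [IsLocalRing A] [IsLocalRing B]
  [IsNoetherianRing A] [IsNoetherianRing B] (φ : A →+* B) [IsLocalHom φ]
  (ψ : AdicCompletion (maximalIdeal A) A →+* AdicCompletion (maximalIdeal B) B)
  (hψ : ψ.comp (algebraMap A (AdicCompletion (maximalIdeal A) A)) =
    (algebraMap B (AdicCompletion (maximalIdeal B) B)).comp φ)

include hψ in
theorem map_max_eq :
    (maximalIdeal (AdicCompletion (maximalIdeal A) A)).map ψ =
      ((maximalIdeal A).map φ).map (algebraMap B (AdicCompletion (maximalIdeal B) B)) := by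
  rw [AdicCompletion.maximalIdeal_eq_map, Ideal.map_map, hψ, ← Ideal.map_map]

include hψ in
theorem map_max_le :
    (maximalIdeal (AdicCompletion (maximalIdeal A) A)).map ψ ≤
      maximalIdeal (AdicCompletion (maximalIdeal B) B) := by
  rw [map_max_eq φ ψ hψ, AdicCompletion.maximalIdeal_eq_map]
  exact Ideal.map_mono (Ideal.map_le_iff_le_comap.2 fun a ha => map_nonunit φ a ha)

include hψ in
theorem isLocalHom_completionMap : IsLocalHom ψ :=
  ((IsLocalRing.local_hom_TFAE ψ).out 0 2).2 (map_max_le φ ψ hψ)

include hψ in
/-- The map of completions is surjective when the residue fields agree and `m_A` generates the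
cotangent space of `B`. -/
theorem surjective_of_cotangent (hk : Function.Surjective (ResidueField.map φ))
    (hcot : maximalIdeal B ≤ Ideal.map φ (maximalIdeal A) ⊔ maximalIdeal B ^ 2) :
    Function.Surjective ψ := by
  have hle : maximalIdeal B ≤ Ideal.map φ (maximalIdeal A) :=
    Submodule.le_of_le_smul_of_le_jacobson_bot (IsNoetherian.noetherian _)
      (IsLocalRing.maximalIdeal_le_jacobson _) (by rwa [smul_eq_mul, ← pow_two])
  have heq : (maximalIdeal (AdicCompletion (maximalIdeal A) A)).map ψ =
      maximalIdeal (AdicCompletion (maximalIdeal B) B) := by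
    refine le_antisymm (map_max_le φ ψ hψ) ?_
    rw [map_max_eq φ ψ hψ, AdicCompletion.maximalIdeal_eq_map]
    exact Ideal.map_mono hle
  haveI : IsHausdorff (Ideal.map ψ (maximalIdeal (AdicCompletion (maximalIdeal A) A)))
      (AdicCompletion (maximalIdeal B) B) := by
    rw [heq]; infer_instance
  refine surjective_of_mk_map_comp_surjective
    (I := maximalIdeal (AdicCompletion (maximalIdeal A) A)) ψ fun y => ?_
  obtain ⟨y, rfl⟩ := Ideal.Quotient.mk_surjective y
  obtain ⟨r, hr⟩ := (AdicCompletion.residueField_map_bijective B).2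
    (residue (AdicCompletion (maximalIdeal B) B) y)
  obtain ⟨s, rfl⟩ := hk r
  obtain ⟨a, rfl⟩ := IsLocalRing.residue_surjective s
  rw [ResidueField.map_residue, ResidueField.map_residue] at hr
  refine ⟨algebraMap A _ a, ?_⟩
  rw [RingHom.comp_apply, Ideal.Quotient.eq, heq, ← RingHom.comp_apply, hψ]
  exact Ideal.Quotient.eq.1 hr

/-- Flatness descends along a faithfully flat extension of the algebra. -/
theorem flat_of_faithfullyFlat_extension {R S T : Type u} [CommRing R] [CommRing S] [CommRing T]
    [Algebra R S] [Algebra R T] [Algebra S T] [IsScalarTower R S T] [Module.FaithfullyFlat S T]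
    [Module.Flat R T] : Module.Flat R S := by
  rw [Module.Flat.iff_lTensor_injective]
  intro I _
  rw [injective_iff_map_eq_zero]
  intro z hz
  apply Module.FaithfullyFlat.tensorProduct_mk_injective (A := S) (B := T) (S ⊗[R] I)
  apply (AlgebraTensorModule.cancelBaseChange R S T T I).injective
  rw [map_zero, map_zero]
  apply Module.Flat.lTensor_preserves_injective_linearMap (M := T) I.subtype I.injective_subtype
  rw [map_zero]
  have key : ∀ w : S ⊗[R] I, I.subtype.lTensor T
      (AlgebraTensorModule.cancelBaseChange R S T T I ((1 : T) ⊗ₜ[S] w)) =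
      LinearMap.rTensor R ((Algebra.linearMap S T).restrictScalars R) (I.subtype.lTensor S w) := fun w => by
    induction w using TensorProduct.induction_on with
    | zero => simp
    | tmul s i => simp [Algebra.smul_def]
    | add p q hp hq => simp only [tmul_add, map_add, hp, hq]
  exact (key z).trans (by rw [hz, map_zero])

include hψ in
/-- The map of completions is flat iff the local homomorphism is flat. -/
theorem flat_completionMap_iff : ψ.Flat ↔ φ.Flat := by
  letI : Algebra A B := φ.toAlgebra
  set A' := AdicCompletion (maximalIdeal A) A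
  set B' := AdicCompletion (maximalIdeal B) B
  letI : Algebra A' B' := ψ.toAlgebra
  haveI hABB : IsScalarTower A B B' := IsScalarTower.of_algebraMap_eq fun x => by
    rfl
  haveI : IsScalarTower A A' B' := IsScalarTower.of_algebraMap_eq' (by
    rw [show algebraMap A' B' = ψ from rfl, hψ, IsScalarTower.algebraMap_eq A B B']; rfl)
  haveI hloc : IsLocalHom (algebraMap A' B') := isLocalHom_completionMap φ ψ hψ
  haveI : Module.FaithfullyFlat B B' := Module.FaithfullyFlat.of_flat_of_isLocalHom
  constructor
  · intro h
    haveI : Module.Flat A' B' := h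
    haveI : Module.Flat A B' := Module.Flat.trans A A' B'
    exact flat_of_faithfullyFlat_extension (R := A) (S := B) (T := B')
  · intro h
    haveI : Module.Flat A B := h
    haveI : Module.Flat A B' := Module.Flat.trans A B B'
    show Module.Flat A' B'
    refine LocalCrit.flat_of_mulMap_injective (S := B') ?_
    -- reduce to the maximal ideal of `A`
    have hmem : ∀ a : maximalIdeal A, algebraMap A A' (a : A) ∈ maximalIdeal A' := fun a => by
      rw [AdicCompletion.maximalIdeal_eq_map]; exact Ideal.mem_map_of_mem _ a.2
    let Θ : (maximalIdeal A) ⊗[A] B' →+ (maximalIdeal A') ⊗[A'] B' :=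
      TensorProduct.liftAddHom
        (AddMonoidHom.mk' (fun a : maximalIdeal A => AddMonoidHom.mk'
          (fun b : B' => (⟨algebraMap A A' (a : A), hmem a⟩ : maximalIdeal A') ⊗ₜ[A'] b)
          (fun b c => tmul_add _ b c))
          (fun a a' => AddMonoidHom.ext fun b => by
            rw [AddMonoidHom.add_apply, AddMonoidHom.mk'_apply, AddMonoidHom.mk'_apply,
              AddMonoidHom.mk'_apply, ← add_tmul]
            congr 1))
        (fun r a b => by
          simp only [AddMonoidHom.mk'_apply]
          rw [← algebraMap_smul A' r b, tmul_smul, smul_tmul']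
          congr 1)
    have hΘ : ∀ (a : maximalIdeal A) (b : B'),
        Θ (a ⊗ₜ b) = (⟨algebraMap A A' (a : A), hmem a⟩ : maximalIdeal A') ⊗ₜ[A'] b := fun a b => rfl
    have hmm : ∀ t, LocalCrit.mulMap (maximalIdeal A') B' (Θ t) =
        LocalCrit.mulMap (maximalIdeal A) B' t := by
      intro t
      induction t using TensorProduct.induction_on with
      | zero => simp
      | tmul a b =>
        rw [hΘ, LocalCrit.mulMap_tmul, LocalCrit.mulMap_tmul]
        exact algebraMap_smul A' (a : A) b
      | add p q hp hq => simp only [map_add, hp, hq]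
    have hsurj : Function.Surjective Θ := by
      have hone : ∀ (y : A') (hy : y ∈ maximalIdeal A') (b : B'),
          (⟨y, hy⟩ : maximalIdeal A') ⊗ₜ[A'] b ∈ Θ.range := by
        intro y hy
        have hy' : y ∈ (maximalIdeal A).map (algebraMap A A') :=
          AdicCompletion.maximalIdeal_eq_map.le hy
        suffices ∀ b : B', ∀ hy : y ∈ maximalIdeal A',
            (⟨y, hy⟩ : maximalIdeal A') ⊗ₜ[A'] b ∈ Θ.range from fun b => this b hy
        clear hy
        induction hy' using Submodule.span_induction with
        | mem y hy =>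
          obtain ⟨a, ha, rfl⟩ := hy
          exact fun b _ => ⟨(⟨a, ha⟩ : maximalIdeal A) ⊗ₜ b, rfl⟩
        | zero =>
          intro b hy
          rw [show (⟨0, hy⟩ : maximalIdeal A') = 0 from rfl, zero_tmul]
          exact zero_mem _
        | add p q hp hq ihp ihq =>
          intro b hy
          have hp' : p ∈ maximalIdeal A' := AdicCompletion.maximalIdeal_eq_map.ge hp
          have hq' : q ∈ maximalIdeal A' := AdicCompletion.maximalIdeal_eq_map.ge hq
          rw [show (⟨p + q, hy⟩ : maximalIdeal A') = ⟨p, hp'⟩ + ⟨q, hq'⟩ from rfl, add_tmul]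
          exact add_mem (ihp b hp') (ihq b hq')
        | smul c p hp ihp =>
          intro b hy
          have hp' : p ∈ maximalIdeal A' := AdicCompletion.maximalIdeal_eq_map.ge hp
          rw [show (⟨c • p, hy⟩ : maximalIdeal A') = c • ⟨p, hp'⟩ from rfl, smul_tmul]
          exact ihp (c • b) hp'
      intro z
      show z ∈ Θ.range
      induction z using TensorProduct.induction_on with
      | zero => exact zero_mem _
      | tmul y b => exact hone y.1 y.2 b
      | add p q hp hq => exact add_mem hp hq
    intro x y hxy
    obtain ⟨x, rfl⟩ := hsurj x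
    obtain ⟨y, rfl⟩ := hsurj y
    rw [hmm, hmm] at hxy
    rw [LocalCrit.mulMap_injective (maximalIdeal A) hxy]

end Groth.Agent.AdicBasics
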