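import Groth.Agent.ResExt.Completion
import Mathlib.RingTheory.AdicCompletion.LocalRing
import Mathlib.RingTheory.AdicCompletion.AsTensorProduct
import Mathlib.RingTheory.Ideal.KrullsHeightTheorem
import Mathlib.RingTheory.RegularLocalRing.Defs
import Mathlib.RingTheory.Flat.FaithfullyFlat.Algebra

/-! Dimension of the completion of a Noetherian local ring. -/

universe u
open IsLocalRing

namespace Groth.Agent.AdicBasics

variable (A : Type u) [CommRing A] [IsLocalRing A] [IsNoetherianRing A]

instance isNoetherianRing_completion : IsNoetherianRing (AdicCompletion (maximalIdeal A) A) :=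
  Groth.Agent.ResExt.isNoetherianRing_adicCompletion _ (IsNoetherian.noetherian _)

theorem ringKrullDim_completion :
    ringKrullDim (AdicCompletion (maximalIdeal A) A) = ringKrullDim A := by
  set B := AdicCompletion (maximalIdeal A) A
  haveI : Algebra.HasGoingDown A B := inferInstance
  haveI : (maximalIdeal B).LiesOver (maximalIdeal A) :=
    ⟨(IsLocalRing.maximalIdeal_comap (algebraMap A B)).symm⟩
  have h := Ideal.height_eq_height_add_of_liesOver_of_hasGoingDown (maximalIdeal A) (maximalIdeal B)
  have h0 : ((maximalIdeal B).map (Ideal.Quotient.mk ((maximalIdeal A).map (algebraMap A B)))).height = 0 := by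
    rw [AdicCompletion.maximalIdeal_eq_map, Ideal.map_quotient_self]
    haveI : Nontrivial (B ⧸ (maximalIdeal A).map (algebraMap A B)) :=
      Ideal.Quotient.nontrivial_iff.2 (by
        rw [← AdicCompletion.maximalIdeal_eq_map]; exact (maximalIdeal.isMaximal B).ne_top)
    haveI : ((maximalIdeal A).map (algebraMap A B)).IsMaximal := by
      rw [← AdicCompletion.maximalIdeal_eq_map]; exact maximalIdeal.isMaximal B
    letI := Ideal.Quotient.field ((maximalIdeal A).map (algebraMap A B))
    exact Ideal.height_bot
  rw [h0, add_zero] at h
  rw [← IsLocalRing.maximalIdeal_height_eq_ringKrullDim,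
    ← IsLocalRing.maximalIdeal_height_eq_ringKrullDim, h]

theorem isRegularLocalRing_completion_iff :
    IsRegularLocalRing A ↔ IsRegularLocalRing (AdicCompletion (maximalIdeal A) A) := by
  rw [isRegularLocalRing_iff, isRegularLocalRing_iff, AdicCompletion.spanFinrank_maximalIdeal_eq,
    ringKrullDim_completion]

end Groth.Agent.AdicBasics
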