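import Groth.Agent.AdicBasics.LocalMap
import Groth.Agent.ArtObs.Models
import Groth.Agent.RegLoc.Order

/-! Power series presentations of complete local rings by a basis of the cotangent space. -/

universe u
open IsLocalRing

namespace Groth.Agent.AdicBasics

variable (k : Type u) [Field k] (R : Type u) [CommRing R] [IsLocalRing R] [IsNoetherianRing R] [Algebra k R]
  (hR : Function.Surjective ((residue R).comp (algebraMap k R)))
  (d : ℕ) (ψ : MvPowerSeries (Fin d) k →ₐ[k] R)
  (hψ : ∀ i : Fin d, ψ (MvPowerSeries.X i) ∈ maximalIdeal R)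
  (hb : LinearIndependent (ResidueField R)
    (fun i : Fin d => (maximalIdeal R).toCotangent ⟨ψ (MvPowerSeries.X i), hψ i⟩))
  (hsp : Submodule.span (ResidueField R)
    (Set.range (fun i : Fin d => (maximalIdeal R).toCotangent ⟨ψ (MvPowerSeries.X i), hψ i⟩)) = ⊤)

include hψ in
theorem ps_map_max_le :
    (maximalIdeal (MvPowerSeries (Fin d) k)).map ψ.toRingHom ≤ maximalIdeal R := by
  rw [← ArtPow.span_X_eq_maximalIdeal, Ideal.map_span, ← Set.range_comp, Ideal.span_le]
  rintro _ ⟨i, rfl⟩
  exact hψ i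

include hsp in
theorem ps_map_max_eq :
    (maximalIdeal (MvPowerSeries (Fin d) k)).map ψ.toRingHom = maximalIdeal R := by
  refine le_antisymm (ps_map_max_le k R d ψ hψ) ?_
  have hspan : Submodule.span R (Set.range fun i : Fin d =>
      (⟨ψ (MvPowerSeries.X i), hψ i⟩ : maximalIdeal R)) = ⊤ := by
    rw [← CotangentSpace.span_image_eq_top_iff, ← Set.range_comp]
    exact hsp
  intro x hx
  have h : (⟨x, hx⟩ : maximalIdeal R) ∈ Submodule.span R (Set.range fun i : Fin d =>
      (⟨ψ (MvPowerSeries.X i), hψ i⟩ : maximalIdeal R)) := hspan ▸ Submodule.mem_top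
  rw [← ArtPow.span_X_eq_maximalIdeal, Ideal.map_span, ← Set.range_comp]
  have h2 := Submodule.mem_map_of_mem (f := (maximalIdeal R).subtype) h
  rw [Submodule.map_span, ← Set.range_comp] at h2
  exact h2

include hR hsp in
theorem ps_surjective [IsAdicComplete (maximalIdeal R) R] : Function.Surjective ψ := by
  haveI := ArtObs.isAdicComplete_ps k d
  haveI : IsHausdorff (Ideal.map ψ.toRingHom (maximalIdeal (MvPowerSeries (Fin d) k))) R := by
    rw [ps_map_max_eq k R d ψ hψ hsp]; infer_instance
  refine surjective_of_mk_map_comp_surjective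
    (I := maximalIdeal (MvPowerSeries (Fin d) k)) ψ.toRingHom fun y => ?_
  obtain ⟨y, rfl⟩ := Ideal.Quotient.mk_surjective y
  obtain ⟨c, hc⟩ := hR (residue R y)
  refine ⟨algebraMap k _ c, ?_⟩
  rw [RingHom.comp_apply, Ideal.Quotient.eq, ps_map_max_eq k R d ψ hψ hsp]
  show ψ (algebraMap k _ c) - y ∈ maximalIdeal R
  rw [AlgHom.commutes]
  exact Ideal.Quotient.eq.1 hc

include hb in
theorem ps_ker_le_sq :
    RingHom.ker ψ.toRingHom ≤ maximalIdeal (MvPowerSeries (Fin d) k) ^ 2 := by
  intro f hf
  replace hf : ψ f = 0 := hf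
  have hfm : f ∈ maximalIdeal (MvPowerSeries (Fin d) k) := by
    rw [IsLocalRing.mem_maximalIdeal]
    intro hu
    exact not_isUnit_zero (hf ▸ hu.map ψ)
  rw [← ArtPow.span_X_eq_maximalIdeal] at hfm
  obtain ⟨a, ha⟩ := (Submodule.mem_span_range_iff_exists_fun _).1 hfm
  have hsum : ∑ i, ψ (a i) • (⟨ψ (MvPowerSeries.X i), hψ i⟩ : maximalIdeal R) = 0 := by
    refine Subtype.ext ?_
    rw [Submodule.coe_sum]
    simp only [Submodule.coe_smul, smul_eq_mul, ← map_mul, ← map_sum, Submodule.coe_zero]
    rw [show ∑ i, a i * MvPowerSeries.X i = f from by simpa using ha, hf]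
  have hres : ∀ i, residue R (ψ (a i)) = 0 := by
    refine Fintype.linearIndependent_iff.1 hb (fun i => residue R (ψ (a i))) ?_
    rw [show (0 : CotangentSpace R) = (maximalIdeal R).toCotangent 0 from (map_zero _).symm, ← hsum,
      map_sum]
    refine Finset.sum_congr rfl fun i _ => ?_
    rw [map_smul]
    rfl
  have hai : ∀ i, a i ∈ maximalIdeal (MvPowerSeries (Fin d) k) := fun i => by
    rw [IsLocalRing.mem_maximalIdeal]
    intro hu
    exact ((residue_eq_zero_iff _).1 (hres i)) (hu.map ψ)
  rw [← ha, pow_two]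
  refine Ideal.sum_mem _ fun i _ => ?_
  exact Ideal.mul_mem_mul (hai i)
    (ArtPow.span_X_eq_maximalIdeal (k := k).le (Ideal.subset_span ⟨i, rfl⟩))

include hR hb hsp in
theorem ps_regular_iff [IsAdicComplete (maximalIdeal R) R] :
    IsRegularLocalRing R ↔ Function.Bijective ψ := by
  have hs := ps_surjective k R hR d ψ hψ hsp
  constructor
  · intro h
    haveI : IsDomain (MvPowerSeries (Fin d) k) := RegLoc.isDomain _
    refine ⟨injective_of_surjective_of_dim ψ.toRingHom hs ?_, hs⟩
    have hfin : Module.finrank (ResidueField R) (CotangentSpace R) = d :=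
      (Module.finrank_eq_card_basis (Module.Basis.mk hb hsp.ge)).trans (Fintype.card_fin d)
    have hR' := (IsRegularLocalRing.iff_finrank_cotangentSpace R).1 h
    rw [hfin] at hR'
    rw [← hR', ← IsRegularLocalRing.spanFinrank_maximalIdeal, ← ArtPow.span_X_eq_maximalIdeal]
    refine Nat.cast_le.2 ((Submodule.spanFinrank_span_le_ncard_of_finite (Set.finite_range _)).trans ?_)
    rw [← Set.image_univ]
    exact (Set.ncard_image_le Set.finite_univ).trans (by simp)
  · intro h
    exact IsRegularLocalRing.of_ringEquiv (RingEquiv.ofBijective ψ.toRingHom h)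

end Groth.Agent.AdicBasics
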