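import Mathlib.RingTheory.AdicCompletion.Exactness
import Mathlib.RingTheory.AdicCompletion.AsTensorProduct
import Mathlib.RingTheory.Flat.EquationalCriterion
import Mathlib.RingTheory.Nakayama
import Mathlib.RingTheory.OrzechProperty

/-! Exactness properties of adic completion. -/

universe u
open AdicCompletion

namespace Groth.Agent.AdicBasics

variable {R : Type u} [CommRing R] (I : Ideal R)
variable {K M N : Type u} [AddCommGroup K] [Module R K] [AddCommGroup M] [Module R M]
  [AddCommGroup N] [Module R N]

theorem map_mk_val (f : M →ₗ[R] N) (a : AdicCauchySequence I M) (n : ℕ) :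
    (AdicCompletion.map I f (AdicCompletion.mk I M a)).val n =
      Submodule.Quotient.mk (f (a n)) := rfl

/-- Exactness of completion when the submodule topology agrees with the induced one up to a shift. -/
theorem map_shortExact_of_shift (i : K →ₗ[R] M) (g : M →ₗ[R] N) (hi : Function.Injective i)
    (hg : Function.Surjective g) (hig : Function.Exact i g) (c : ℕ)
    (hc : ∀ n k, i k ∈ (I ^ (n + c) • ⊤ : Submodule R M) → k ∈ (I ^ n • ⊤ : Submodule R K)) :
    Function.Injective (AdicCompletion.map I i) ∧
      Function.Exact (AdicCompletion.map I i) (AdicCompletion.map I g) ∧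
      Function.Surjective (AdicCompletion.map I g) := by
  refine ⟨?_, ?_, AdicCompletion.map_surjective I hg⟩
  · rw [← LinearMap.ker_eq_bot, LinearMap.ker_eq_bot']
    intro x
    apply AdicCompletion.induction_on I K x (fun a ↦ ?_)
    intro hx
    refine AdicCompletion.mk_zero_of _ _ _ ⟨0, fun n _ ↦ ⟨n + c, by omega, n, le_rfl, ?_⟩⟩
    refine hc n _ ((Submodule.Quotient.mk_eq_zero _).1 ?_)
    exact (map_mk_val I i a (n + c)).symm.trans (by rw [hx]; rfl)
  · refine LinearMap.exact_of_comp_eq_zero_of_ker_le_range ?_ (fun y ↦ ?_)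
    · rw [AdicCompletion.map_comp, hig.linearMap_comp_eq_zero, AdicCompletion.map_zero]
    · apply AdicCompletion.induction_on I M y (fun b ↦ ?_)
      intro hz
      have hb : ∀ n, g (b n) ∈ Submodule.map g (I ^ n • ⊤ : Submodule R M) := fun n => by
        rw [Submodule.map_smul'', Submodule.map_top, LinearMap.range_eq_top.2 hg]
        refine (Submodule.Quotient.mk_eq_zero _).1 ?_
        exact (map_mk_val I g b n).symm.trans (by rw [LinearMap.mem_ker.1 hz]; rfl)
      choose d hd hgd using hb
      choose k hk using fun n => (hig (b n - d n)).1 (by rw [map_sub, hgd, sub_self])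
      have hcau : ∀ n, k (n + c) ≡ k (n + 1 + c) [SMOD (I ^ n • ⊤ : Submodule R K)] := fun n => by
        rw [SModEq.sub_mem]
        refine hc n _ ?_
        rw [map_sub, hk, hk]
        have h1 : b (n + c) - b (n + 1 + c) ∈ (I ^ (n + c) • ⊤ : Submodule R M) :=
          SModEq.sub_mem.1 (b.2 (by omega))
        have h2 : d (n + 1 + c) ∈ (I ^ (n + c) • ⊤ : Submodule R M) :=
          Submodule.smul_mono_left (Ideal.pow_le_pow_right (by omega)) (hd (n + 1 + c))
        have : b (n + c) - d (n + c) - (b (n + 1 + c) - d (n + 1 + c)) =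
            (b (n + c) - b (n + 1 + c)) - d (n + c) + d (n + 1 + c) := by abel
        rw [this]
        exact add_mem (sub_mem h1 (hd (n + c))) h2
      refine ⟨AdicCompletion.mk I K (AdicCauchySequence.mk I K (fun n => k (n + c)) hcau), ?_⟩
      refine AdicCompletion.ext fun n => ?_
      rw [map_mk_val]
      refine (Submodule.Quotient.eq _).2 ?_
      show i (k (n + c)) - b n ∈ _
      rw [hk]
      have h1 : b n - b (n + c) ∈ (I ^ n • ⊤ : Submodule R M) := SModEq.sub_mem.1 (b.2 (by omega))
      have h2 : d (n + c) ∈ (I ^ n • ⊤ : Submodule R M) :=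
        Submodule.smul_mono_left (Ideal.pow_le_pow_right (by omega)) (hd (n + c))
      have : b (n + c) - d (n + c) - b n = -((b n - b (n + c)) + d (n + c)) := by abel
      rw [this]
      exact neg_mem (add_mem h1 h2)

/-- A submodule with flat quotient is pure. -/
theorem mem_smul_of_flat_quotient [Module.Flat R N] (i : K →ₗ[R] M) (g : M →ₗ[R] N)
    (hi : Function.Injective i) (hg : Function.Surjective g) (hig : Function.Exact i g) (J : Ideal R)
    (k : K) (hk : i k ∈ (J • ⊤ : Submodule R M)) : k ∈ (J • ⊤ : Submodule R K) := by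
  obtain ⟨n, r, m, hr, hs⟩ : ∃ (n : ℕ) (r : Fin n → R) (m : Fin n → M),
      (∀ j, r j ∈ J) ∧ ∑ j, r j • m j = i k := by
    refine Submodule.smul_induction_on hk (fun a ha b _ => ⟨1, fun _ => a, fun _ => b, fun _ => ha, by simp⟩) ?_
    rintro x y ⟨n, r, m, hr, rfl⟩ ⟨n', r', m', hr', rfl⟩
    refine ⟨n + n', Fin.append r r', Fin.append m m', fun j => ?_, by simp [Fin.sum_univ_add]⟩
    induction j using Fin.addCases <;> simp [hr, hr']
  have h0 : ∑ j, r j • g (m j) = 0 := by
    simp only [← map_smul, ← map_sum, hs]
    exact hig.apply_apply_eq_zero k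
  obtain ⟨l, a, y, hy, hra⟩ := Module.Flat.isTrivialRelation_of_sum_smul_eq_zero h0
  choose y' hy' using fun t => hg (y t)
  choose k' hk' using fun j => (hig (m j - ∑ t, a j t • y' t)).1 (by
    rw [map_sub, map_sum, show g (m j) = _ from hy j]; simp [hy'])
  have hkk : k = ∑ j, r j • k' j := by
    refine hi ?_
    rw [map_sum]
    simp only [map_smul, hk', smul_sub, Finset.sum_sub_distrib, hs, Finset.smul_sum, smul_smul]
    rw [Finset.sum_comm]
    simp only [← Finset.sum_smul, hra, zero_smul, Finset.sum_const_zero, sub_zero]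
  rw [hkk]
  exact Submodule.sum_mem _ fun j _ => Submodule.smul_mem_smul (hr j) trivial

/-- A module over a Noetherian ring with vanishing completions at all maximal ideals vanishes. -/
theorem subsingleton_of_completions [Module.Finite R M]
    (h : ∀ m : Ideal R, m.IsMaximal → Subsingleton (AdicCompletion m M)) : Subsingleton M := by
  have hann : (Module.annihilator R M) = ⊤ := by
    by_contra hne
    obtain ⟨m, hm, hle⟩ := Ideal.exists_le_maximal _ hne
    have htop : (⊤ : Submodule R M) ≤ m • (⊤ : Submodule R M) := by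
      intro x _
      obtain ⟨y, hy⟩ := AdicCompletion.eval_surjective m M 1 (Submodule.Quotient.mk x)
      have : Subsingleton (AdicCompletion m M) := h m hm
      rw [Subsingleton.elim y 0, _root_.map_zero] at hy
      have := (Submodule.Quotient.mk_eq_zero _).1 hy.symm
      rwa [pow_one] at this
    obtain ⟨r, hr1, hr0⟩ :=
      Submodule.exists_sub_one_mem_and_smul_eq_zero_of_fg_of_le_smul m ⊤ Module.Finite.fg_top htop
    have hrm : r ∈ m := hle (Module.mem_annihilator.2 fun x => hr0 x trivial)
    exact hm.ne_top ((Ideal.eq_top_iff_one m).2 (by simpa using sub_mem hrm hr1))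
  refine subsingleton_of_forall_eq 0 fun x => ?_
  have h1 : (1 : R) ∈ Module.annihilator R M := hann ▸ trivial
  simpa using Module.mem_annihilator.1 h1 x

end Groth.Agent.AdicBasics
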