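import Mathlib.RingTheory.AdicCompletion.RingHom
import Mathlib.RingTheory.AdicCompletion.Functoriality
import Mathlib.RingTheory.AdicCompletion.Noetherian
import Mathlib.RingTheory.PowerSeries.Inverse
import Mathlib.RingTheory.PowerSeries.Trunc
import Mathlib.RingTheory.AdicCompletion.Completeness
import Mathlib.RingTheory.DiscreteValuationRing.Basic
import Mathlib.RingTheory.MvPowerSeries.Inverse

/-! Evaluation of one variable power series in an adically complete algebra. -/

universe u v
open PowerSeries IsLocalRing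

namespace Groth.Agent.AdicBasics

variable {K : Type u} {A : Type v} [Field K] [CommRing A] [Algebra K A]

theorem mk_aeval_eq {I : Ideal A} {x : A} (hx : x ∈ I) {n : ℕ} {p q : Polynomial K}
    (h : ∀ d < n, p.coeff d = q.coeff d) :
    Ideal.Quotient.mk (I ^ n) (Polynomial.aeval x p) = Ideal.Quotient.mk (I ^ n) (Polynomial.aeval x q) := by
  obtain ⟨c, hc⟩ := (Polynomial.X_pow_dvd_iff (f := p - q)).2 fun d hd => by
    rw [Polynomial.coeff_sub, h d hd, sub_self]
  rw [Ideal.Quotient.eq, ← map_sub, hc, map_mul, map_pow, Polynomial.aeval_X]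
  exact Ideal.mul_mem_right _ _ (Ideal.pow_mem_pow hx n)

/-- Truncated evaluation. -/
noncomputable def evalMod (I : Ideal A) (x : A) (hx : x ∈ I) (n : ℕ) : K⟦X⟧ →+* A ⧸ I ^ n where
  toFun f := Ideal.Quotient.mk _ (Polynomial.aeval x (trunc n f))
  map_zero' := by simp
  map_one' := by
    refine (mk_aeval_eq hx (q := 1) fun d hd => ?_).trans (by simp)
    rw [coeff_trunc, if_pos hd, PowerSeries.coeff_one, Polynomial.coeff_one]
  map_add' f g := by simp
  map_mul' f g := by
    rw [← map_mul, ← map_mul]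
    refine mk_aeval_eq hx fun d hd => ?_
    rw [coeff_trunc, if_pos hd, coeff_mul_eq_coeff_trunc_mul_trunc f g hd, ← Polynomial.coe_mul,
      Polynomial.coeff_coe]

/-- Evaluation `K⟦X⟧ → A` at an element of `I` for `I`-adically complete `A`. -/
theorem exists_evalPS (I : Ideal A) [IsAdicComplete I A] (x : A) (hx : x ∈ I) :
    ∃ φ : K⟦X⟧ →ₐ[K] A, φ PowerSeries.X = x ∧ ∀ (f : K⟦X⟧) (n : ℕ),
      φ f - (Finset.range n).sum (fun i => algebraMap K A (PowerSeries.coeff i f) * x ^ i) ∈ I ^ n := by
  have hf : ∀ {m n : ℕ} (hle : m ≤ n),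
      (Ideal.Quotient.factorPow I hle).comp (evalMod (K := K) I x hx n) = evalMod (K := K) I x hx m := by
    intro m n hle
    ext f
    show Ideal.Quotient.mk (I ^ m) (Polynomial.aeval x (trunc n f)) = _
    exact mk_aeval_eq hx fun d hd => by rw [coeff_trunc, coeff_trunc, if_pos hd, if_pos (hd.trans_le hle)]
  let ψ := IsAdicComplete.liftRingHom I (fun n => evalMod (K := K) I x hx n) hf
  have hψ : ∀ n f, Ideal.Quotient.mk (I ^ n) (ψ f) = Ideal.Quotient.mk (I ^ n) (Polynomial.aeval x (trunc n f)) :=
    fun n f => IsAdicComplete.mk_liftRingHom I _ hf n f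
  have heq : ∀ a b : A, (∀ n, Ideal.Quotient.mk (I ^ n) a = Ideal.Quotient.mk (I ^ n) b) → a = b := by
    intro a b h
    refine sub_eq_zero.mp (IsHausdorff.haus' (I := I) _ fun n => ?_)
    rw [SModEq.sub_mem, sub_zero, smul_eq_mul, Ideal.mul_top]
    exact Ideal.Quotient.eq.mp (h n)
  have hsum : ∀ f n, Polynomial.aeval x (trunc n f) =
      (Finset.range n).sum (fun i => algebraMap K A (PowerSeries.coeff i f) * x ^ i) := fun f n => by
    rcases n with _ | n
    · simp
    · rw [Polynomial.aeval_def, eval₂_trunc_eq_sum_range]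
  refine ⟨{ ψ with commutes' := fun r => heq _ _ fun n => ?_ }, heq _ _ fun n => ?_, fun f n => ?_⟩
  · refine (hψ n _).trans ((mk_aeval_eq hx (q := Polynomial.C r) fun d hd => ?_).trans (by simp))
    rw [coeff_trunc, if_pos hd, PowerSeries.algebraMap_apply, Algebra.algebraMap_self, RingHom.id_apply,
      PowerSeries.coeff_C, Polynomial.coeff_C]
  · refine (hψ n _).trans ((mk_aeval_eq hx (q := Polynomial.X) fun d hd => ?_).trans (by simp))
    rw [coeff_trunc, if_pos hd, PowerSeries.coeff_X, Polynomial.coeff_X]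
    simp only [eq_comm]
  · rw [← hsum]
    exact Ideal.Quotient.eq.1 (hψ n f)

/-- A complete DVR with a coefficient field is a power series ring. -/
theorem bijective_evalPS [IsDomain A] [IsDiscreteValuationRing A] [IsAdicComplete (maximalIdeal A) A]
    (hK : Function.Surjective ((residue A).comp (algebraMap K A))) {x : A}
    (hx : maximalIdeal A = Ideal.span {x}) (φ : K⟦X⟧ →ₐ[K] A) (hφ : φ PowerSeries.X = x) :
    Function.Bijective φ := by
  have hmap : (maximalIdeal K⟦X⟧).map φ.toRingHom = maximalIdeal A := by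
    rw [PowerSeries.maximalIdeal_eq_span_X, Ideal.map_span, Set.image_singleton, hx]
    exact congrArg (fun a => Ideal.span {a}) hφ
  constructor
  · rw [injective_iff_map_eq_zero]
    intro f hf
    by_contra hne
    have hx0 : x ≠ 0 := fun h => IsDiscreteValuationRing.not_a_field A (by rw [hx, h, Ideal.span_singleton_eq_bot])
    obtain ⟨n, u, hu⟩ := IsDiscreteValuationRing.eq_unit_mul_pow_irreducible hne PowerSeries.X_irreducible
    rw [hu, map_mul, map_pow, hφ] at hf
    exact mul_ne_zero (u.isUnit.map φ).ne_zero (pow_ne_zero n hx0) hf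
  · haveI : IsHausdorff (Ideal.map φ.toRingHom (maximalIdeal K⟦X⟧)) A := by rw [hmap]; infer_instance
    haveI : IsAdicComplete (maximalIdeal K⟦X⟧) K⟦X⟧ := by
      rw [PowerSeries.maximalIdeal_eq_span_X]; infer_instance
    refine surjective_of_mk_map_comp_surjective (I := maximalIdeal K⟦X⟧) φ.toRingHom fun y => ?_
    obtain ⟨y, rfl⟩ := Ideal.Quotient.mk_surjective y
    obtain ⟨c, hc⟩ := hK (residue A y)
    refine ⟨algebraMap K _ c, ?_⟩
    rw [RingHom.comp_apply, Ideal.Quotient.eq, hmap]
    show φ (algebraMap K _ c) - y ∈ maximalIdeal A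
    rw [AlgHom.commutes]
    exact Ideal.Quotient.eq.1 hc

end Groth.Agent.AdicBasics
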